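import Mathlib
import Cfsg.Agent.Lib.SL2.Basic
import Cfsg.Agent.Lib.Forms.Symplectic
import Cfsg.Agent.Lib.LinGroup.SympSimple
import Cfsg.Agent.Lib.SpFourPresentation.Bound

/-!
`Sp₄(F)` satisfies the gluing relations and is generated by the two copies of `SL₂`.
-/

set_option autoImplicit false

namespace Cfsg.Agent.Lib.SpFourPresentation

open Matrix Cfsg.Agent.Lib.SL2

variable {F : Type*} [Field F]

/-- the matrices of size four -/
abbrev SpF (F : Type*) [Field F] := Matrix.symplecticGroup (Fin 2) F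

theorem sp_ext {g h : SpF F} (e : (g : Matrix (Fin 2 ⊕ Fin 2) (Fin 2 ⊕ Fin 2) F) = h) : g = h := Subtype.ext e

theorem sp_coe_mul (g h : SpF F) :
    ((g * h : SpF F) : Matrix (Fin 2 ⊕ Fin 2) (Fin 2 ⊕ Fin 2) F) =
      (g : Matrix (Fin 2 ⊕ Fin 2) (Fin 2 ⊕ Fin 2) F) * h := rfl

theorem sp_coe_one : ((1 : SpF F) : Matrix (Fin 2 ⊕ Fin 2) (Fin 2 ⊕ Fin 2) F) = 1 := rfl

/-- the matrix of the short root `SL₂` -/
def leviMat (g : SLtwo F) : Matrix (Fin 2 ⊕ Fin 2) (Fin 2 ⊕ Fin 2) F :=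
  fromBlocks !![g 0 0, g 0 1; g 1 0, g 1 1] 0 0 !![g 1 1, -g 1 0; -g 0 1, g 0 0]

/-- the matrix of the long root `SL₂` -/
def longMat (g : SLtwo F) : Matrix (Fin 2 ⊕ Fin 2) (Fin 2 ⊕ Fin 2) F :=
  fromBlocks !![1, 0; 0, g 0 0] !![0, 0; 0, g 0 1] !![0, 0; 0, g 1 0] !![1, 0; 0, g 1 1]

theorem leviMat_mem (g : SLtwo F) : leviMat g ∈ Matrix.symplecticGroup (Fin 2) F := by
  rw [leviMat, SymplecticGroup.fromBlocks_mem_iff]
  have hd := det_entries g
  refine ⟨by simp, by simp, ?_⟩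
  ext i j
  fin_cases i <;> fin_cases j <;> simp [Matrix.mul_apply, Fin.sum_univ_two] <;>
    first | ring1 | linear_combination hd | linear_combination -hd

theorem longMat_mem (g : SLtwo F) : longMat g ∈ Matrix.symplecticGroup (Fin 2) F := by
  rw [longMat, SymplecticGroup.fromBlocks_mem_iff]
  have hd := det_entries g
  refine ⟨?_, ?_, ?_⟩ <;> ext i j <;>
    fin_cases i <;> fin_cases j <;> simp [Matrix.mul_apply, Fin.sum_univ_two] <;>
      first | ring1 | linear_combination hd | linear_combination -hd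

/-- the short root `SL₂` -/
def spA : SLtwo F →* SpF F where
  toFun g := ⟨leviMat g, leviMat_mem g⟩
  map_one' := sp_ext (by
    show leviMat (1 : SLtwo F) = 1
    ext (i | i) (j | j) <;> fin_cases i <;> fin_cases j <;> simp [leviMat])
  map_mul' g h := sp_ext (by
    show leviMat (g * h) = leviMat g * leviMat h
    rw [leviMat, leviMat, leviMat, fromBlocks_multiply]
    congr 1 <;> (ext i j; fin_cases i <;> fin_cases j <;>
      simp [mul_00, mul_01, mul_10, mul_11, Matrix.mul_apply, Fin.sum_univ_two] <;> ring))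

/-- the long root `SL₂` -/
def spB : SLtwo F →* SpF F where
  toFun g := ⟨longMat g, longMat_mem g⟩
  map_one' := sp_ext (by
    show longMat (1 : SLtwo F) = 1
    ext (i | i) (j | j) <;> fin_cases i <;> fin_cases j <;> simp [longMat])
  map_mul' g h := sp_ext (by
    show longMat (g * h) = longMat g * longMat h
    rw [longMat, longMat, longMat, fromBlocks_multiply]
    congr 1 <;> (ext i j; fin_cases i <;> fin_cases j <;>
      simp [mul_00, mul_01, mul_10, mul_11, Matrix.mul_apply, Fin.sum_univ_two]))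

theorem spA_coe (g : SLtwo F) : ((spA g : SpF F) : Matrix (Fin 2 ⊕ Fin 2) (Fin 2 ⊕ Fin 2) F) = leviMat g := rfl
theorem spB_coe (g : SLtwo F) : ((spB g : SpF F) : Matrix (Fin 2 ⊕ Fin 2) (Fin 2 ⊕ Fin 2) F) = longMat g := rfl

/-- the upper Siegel element -/
def mS (x r s : F) : SpF F :=
  ⟨fromBlocks 1 !![x, r; r, s] 0 1, by
    rw [SymplecticGroup.fromBlocks_mem_iff]
    refine ⟨by simp, ?_, by simp⟩
    ext i j
    fin_cases i <;> fin_cases j <;> simp⟩

theorem mS_mul (x r s x' r' s' : F) : mS x r s * mS x' r' s' = mS (x + x') (r + r') (s + s') := by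
  apply sp_ext
  rw [sp_coe_mul]
  simp only [mS, fromBlocks_multiply]
  congr 1 <;> (ext i j; fin_cases i <;> fin_cases j <;> simp [add_comm])

/-- the standard embedding -/
def stdEmb (ω : Fˣ) : Emb F (SpF F) := ⟨spA, spB, ω⟩

theorem std_xb (ω : Fˣ) (t : F) : (stdEmb ω).xb t = mS 0 0 t := by
  apply sp_ext
  show longMat (upper t) = fromBlocks 1 !![0, 0; 0, t] 0 1
  ext (i | i) (j | j) <;> fin_cases i <;> fin_cases j <;> simp [longMat]

theorem std_xab (ω : Fˣ) (t : F) : (stdEmb ω).xab t = mS 0 (-t) 0 := by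
  rw [Emb.xab, mul_inv_eq_iff_eq_mul]
  apply sp_ext
  simp only [sp_coe_mul]
  show longMat weyl * leviMat (upper t) = fromBlocks 1 !![0, -t; -t, 0] 0 1 * longMat weyl
  rw [longMat, leviMat, fromBlocks_multiply, fromBlocks_multiply]
  congr 1 <;> (ext i j; fin_cases i <;> fin_cases j <;> simp [Matrix.mul_apply, Fin.sum_univ_two])

theorem std_xaab (ω : Fˣ) (t : F) : (stdEmb ω).xaab t = mS t 0 0 := by
  rw [Emb.xaab, std_xb, mul_inv_eq_iff_eq_mul]
  apply sp_ext
  simp only [sp_coe_mul]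
  show leviMat weyl * fromBlocks 1 !![0, 0; 0, t] 0 1 = fromBlocks 1 !![t, 0; 0, 0] 0 1 * leviMat weyl
  rw [leviMat, fromBlocks_multiply, fromBlocks_multiply]
  congr 1 <;> (ext i j; fin_cases i <;> fin_cases j <;> simp [Matrix.mul_apply, Fin.sum_univ_two])

theorem spA_mS (g : SLtwo F) (x r s : F) :
    spA g * mS x r s * (spA g)⁻¹ =
      mS (g 0 0 * g 0 0 * x + 2 * (g 0 0 * g 0 1) * r + g 0 1 * g 0 1 * s)
        (g 0 0 * g 1 0 * x + (g 0 0 * g 1 1 + g 0 1 * g 1 0) * r + g 0 1 * g 1 1 * s)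
        (g 1 0 * g 1 0 * x + 2 * (g 1 0 * g 1 1) * r + g 1 1 * g 1 1 * s) := by
  have hd := det_entries g
  rw [mul_inv_eq_iff_eq_mul]
  apply sp_ext
  simp only [sp_coe_mul, spA_coe]
  simp only [mS, leviMat, fromBlocks_multiply]
  congr 1 <;> (ext i j; fin_cases i <;> fin_cases j <;> simp [Matrix.mul_apply, Fin.sum_univ_two])
  · linear_combination (-(g 0 0) * x - g 0 1 * r) * hd
  · linear_combination (-(g 0 0) * r - g 0 1 * s) * hd
  · linear_combination (-(g 1 0) * x - g 1 1 * r) * hd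
  · linear_combination (-(g 1 0) * r - g 1 1 * s) * hd

/-- the diagonal torus element -/
def mD (a c : Fˣ) : SpF F :=
  ⟨fromBlocks !![(a : F), 0; 0, (c : F)] 0 0 !![((a⁻¹ : Fˣ) : F), 0; 0, ((c⁻¹ : Fˣ) : F)], by
    rw [SymplecticGroup.fromBlocks_mem_iff]
    refine ⟨by simp, by simp, ?_⟩
    ext i j
    fin_cases i <;> fin_cases j <;> simp [Matrix.mul_apply, Fin.sum_univ_two]⟩

theorem mD_mul (a c a' c' : Fˣ) : mD a c * mD a' c' = mD (a * a') (c * c') := by
  apply sp_ext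
  simp only [sp_coe_mul, mD, fromBlocks_multiply]
  congr 1 <;> (ext i j; fin_cases i <;> fin_cases j <;> simp [Matrix.mul_apply, Fin.sum_univ_two] <;> ring)

theorem std_ha (ω : Fˣ) : (stdEmb ω).ha = mD ω ω⁻¹ := by
  apply sp_ext
  show leviMat (diag ω) = _
  simp [leviMat, mD]

theorem std_hb (ω : Fˣ) : (stdEmb ω).hb = mD 1 ω := by
  apply sp_ext
  show longMat (diag ω) = _
  ext (i | i) (j | j) <;> fin_cases i <;> fin_cases j <;> simp [longMat, mD]

theorem spA_mD (a c : Fˣ) : spA weyl * mD a c * (spA weyl)⁻¹ = mD c a := by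
  rw [mul_inv_eq_iff_eq_mul]
  apply sp_ext
  simp only [sp_coe_mul, spA_coe]
  simp only [mD, leviMat, fromBlocks_multiply]
  congr 1 <;> (ext i j; fin_cases i <;> fin_cases j <;> simp [Matrix.mul_apply, Fin.sum_univ_two])

theorem spB_mD (a c : Fˣ) : spB weyl * mD a c * (spB weyl)⁻¹ = mD a c⁻¹ := by
  rw [mul_inv_eq_iff_eq_mul]
  apply sp_ext
  simp only [sp_coe_mul, spB_coe]
  simp only [mD, longMat, fromBlocks_multiply]
  congr 1 <;> (ext i j; fin_cases i <;> fin_cases j <;> simp [Matrix.mul_apply, Fin.sum_univ_two])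

theorem mD_mS (a c : Fˣ) (x r s : F) :
    mD a c * mS x r s * (mD a c)⁻¹ = mS ((a : F) * a * x) ((a : F) * c * r) ((c : F) * c * s) := by
  rw [mul_inv_eq_iff_eq_mul]
  apply sp_ext
  simp only [sp_coe_mul]
  simp only [mD, mS, fromBlocks_multiply]
  congr 1 <;> (ext i j; fin_cases i <;> fin_cases j <;> simp [Matrix.mul_apply, Fin.sum_univ_two] <;> field_simp)

theorem mD_spA (a c : Fˣ) (t : F) :
    mD a c * spA (upper t) * (mD a c)⁻¹ = spA (upper ((a : F) * (c : F)⁻¹ * t)) := by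
  rw [mul_inv_eq_iff_eq_mul]
  apply sp_ext
  simp only [sp_coe_mul, spA_coe]
  simp only [mD, leviMat, fromBlocks_multiply]
  congr 1 <;> (ext i j; fin_cases i <;> fin_cases j <;> simp [Matrix.mul_apply, Fin.sum_univ_two] <;> field_simp)

theorem spB_mS_aab (x : F) : spB weyl * mS x 0 0 * (spB weyl)⁻¹ = mS x 0 0 := by
  rw [mul_inv_eq_iff_eq_mul]
  apply sp_ext
  simp only [sp_coe_mul, spB_coe]
  simp only [mS, longMat, fromBlocks_multiply]
  congr 1 <;> (ext i j; fin_cases i <;> fin_cases j <;> simp [Matrix.mul_apply, Fin.sum_univ_two])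

theorem std_braid : spA (weyl : SLtwo F) * spB weyl * spA weyl * spB weyl =
    spB weyl * spA weyl * spB weyl * spA weyl := by
  have ea : leviMat (weyl : SLtwo F) = fromBlocks !![0, 1; -1, 0] 0 0 !![0, 1; -1, 0] := by simp [leviMat]
  have eb : longMat (weyl : SLtwo F) = fromBlocks !![1, 0; 0, 0] !![0, 0; 0, 1] !![0, 0; 0, -1] !![1, 0; 0, 0] := by
    simp [longMat]
  apply sp_ext
  simp only [sp_coe_mul, spA_coe, spB_coe, ea, eb]
  simp [fromBlocks_multiply, Matrix.mul_fin_two]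

theorem std_rels (ω : Fˣ) : (stdEmb ω).Rels where
  comm := by rw [std_ha, std_hb, mD_mul, mD_mul, mul_comm ω, mul_comm ω⁻¹]
  wa_hb := by
    show spA weyl * _ * (spA weyl)⁻¹ = _
    rw [std_hb, std_ha, spA_mD, mD_mul]; congr 1 <;> simp
  wb_ha := by
    show spB weyl * _ * (spB weyl)⁻¹ = _
    rw [std_ha, std_hb, spB_mD, mD_mul, mD_mul]; congr 1 <;> simp
  ha_xb := by
    rw [std_ha, std_xb, std_xb, mD_mS]; congr 1 <;> simp [stdEmb]
  hb_xa := by
    show _ * spA (upper 1) * _ = spA (upper _)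
    rw [std_hb, mD_spA]; simp [stdEmb]
  braid := std_braid
  wa_xab := by
    show spA weyl * _ * (spA weyl)⁻¹ = _
    rw [std_xab, std_xab, spA_mS]; congr 1 <;> simp
  wb_xaab := by
    show spB weyl * _ * (spB weyl)⁻¹ = _
    rw [std_xaab, spB_mS_aab]
  b_ab := by rw [std_xb, std_xab, mS_mul, mS_mul]; congr 1 <;> ring
  b_aab := by rw [std_xb, std_xaab, mS_mul, mS_mul]; congr 1 <;> ring
  a_aab := by
    rw [std_xaab]
    refine mul_inv_eq_iff_eq_mul.mp ?_
    show spA (upper 1) * _ * (spA (upper 1))⁻¹ = _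
    rw [spA_mS]; congr 1 <;> simp
  a_ab := by
    rw [std_xab, std_xaab, mul_inv_eq_iff_eq_mul]
    show spA (upper 1) * _ * (spA (upper 1))⁻¹ = _
    rw [spA_mS, mS_mul]; congr 1 <;> simp
  a_b := by
    rw [std_xb, std_xab, std_xaab, mul_inv_eq_iff_eq_mul]
    show spA (upper 1) * _ * (spA (upper 1))⁻¹ = _
    rw [spA_mS, mS_mul, mS_mul]; congr 1 <;> simp

/-- the element exchanging the two Lagrangian subspaces -/
theorem swap_mulVec (v : Fin 2 ⊕ Fin 2 → F) :
    LinGroup.spVec (spA weyl * spB weyl * (spA weyl)⁻¹ * spB weyl) v =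
      Sum.elim ![v (.inr 0), v (.inr 1)] ![-v (.inl 0), -v (.inl 1)] := by
  have e : spA weyl * spB weyl * (spA weyl)⁻¹ * spB weyl = spA (weyl : SLtwo F) * spB weyl * spA (weyl⁻¹) * spB weyl := by
    rw [map_inv]
  rw [e, LinGroup.spVec, sp_coe_mul, sp_coe_mul, sp_coe_mul]
  simp only [spA_coe, spB_coe, leviMat, longMat, fromBlocks_multiply]
  ext (i | i) <;> fin_cases i <;>
    simp [mulVec, dotProduct, Fintype.sum_sum_type, Fin.sum_univ_two, inv_00, inv_01, inv_10, inv_11]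

theorem closure_eq_top (K : Subgroup (SpF F)) (hA : ∀ g, spA g ∈ K) (hB : ∀ g, spB g ∈ K) : K = ⊤ := by
  classical
  have hS : ∀ x r s : F, mS x r s ∈ K := by
    intro x r s
    have h1 : mS x 0 0 ∈ K := by
      rw [← std_xaab (1 : Fˣ)]; exact mul_mem (mul_mem (hA _) (hB _)) (inv_mem (hA _))
    have h2 : mS 0 r 0 ∈ K := by
      have := mul_mem (mul_mem (hB weyl) (hA (upper (-r)))) (inv_mem (hB weyl))
      have e := std_xab (1 : Fˣ) (-r)
      rw [neg_neg] at e
      rw [← e]; exact this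
    have h3 : mS 0 0 s ∈ K := by rw [← std_xb (1 : Fˣ)]; exact hB _
    have := mul_mem (mul_mem h1 h2) h3
    simpa [mS_mul] using this
  have hJ : spA weyl * spB weyl * (spA weyl)⁻¹ * spB weyl ∈ K :=
    mul_mem (mul_mem (mul_mem (hA _) (hB _)) (inv_mem (hA _))) (hB _)
  set e1 : Fin 2 ⊕ Fin 2 → F := Pi.single (.inl 0) 1 with he1
  -- every non-zero vector is moved to the first basis vector
  have hmove : ∀ v : Fin 2 ⊕ Fin 2 → F, v ≠ 0 → ∃ g ∈ K, LinGroup.spVec g e1 = v := by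
    have step0 : ∀ v : Fin 2 ⊕ Fin 2 → F, v ≠ 0 → v (.inr 0) = 0 → v (.inr 1) = 0 →
        ∃ g ∈ K, LinGroup.spVec g e1 = v := by
      intro v hv h0 h1
      have key : ∃ g : SLtwo F, g 0 0 = v (.inl 0) ∧ g 1 0 = v (.inl 1) := by
        rcases eq_or_ne (v (.inl 0)) 0 with hx | hx
        · have hy : v (.inl 1) ≠ 0 := fun hy => hv (by
            ext (i | i) <;> fin_cases i <;> simp [hx, hy, h0, h1])
          exact ⟨ofEntries 0 (-(v (.inl 1))⁻¹) (v (.inl 1)) 0 (by field_simp; ring), by simp [hx], by simp⟩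
        · exact ⟨ofEntries (v (.inl 0)) 0 (v (.inl 1)) (v (.inl 0))⁻¹ (by field_simp; ring), by simp, by simp⟩
      obtain ⟨g, g0, g1⟩ := key
      refine ⟨spA g, hA g, ?_⟩
      ext (i | i) <;> fin_cases i <;>
        simp [LinGroup.spVec, spA_coe, leviMat, he1, mulVec, dotProduct, Fintype.sum_sum_type,
          Fin.sum_univ_two, g0, g1, h0, h1]
    intro v hv
    by_cases hy : v (.inr 0) = 0 ∧ v (.inr 1) = 0
    · exact step0 v hv hy.1 hy.2
    -- kill the first half with a Siegel element, then exchange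
    obtain ⟨x, r, s, c0, c1⟩ : ∃ x r s : F, v (.inl 0) + (x * v (.inr 0) + r * v (.inr 1)) = 0 ∧
        v (.inl 1) + (r * v (.inr 0) + s * v (.inr 1)) = 0 := by
      by_cases h0 : v (.inr 0) = 0
      · have h1 : v (.inr 1) ≠ 0 := fun h => hy ⟨h0, h⟩
        refine ⟨0, -(v (.inl 0)) / v (.inr 1), -(v (.inl 1)) / v (.inr 1), ?_, ?_⟩
        · field_simp; ring
        · rw [h0, mul_zero, zero_add]; field_simp; ring
      · refine ⟨(-(v (.inl 0)) - (-(v (.inl 1)) / v (.inr 0)) * v (.inr 1)) / v (.inr 0),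
          -(v (.inl 1)) / v (.inr 0), 0, ?_, ?_⟩
        · field_simp; ring
        · field_simp; ring
    set J := spA (weyl : SLtwo F) * spB weyl * (spA weyl)⁻¹ * spB weyl with hJdef
    set w := LinGroup.spVec J (LinGroup.spVec (mS x r s) v) with hw
    have hw0 : w ≠ 0 := by
      intro h
      apply hv
      apply LinGroup.spVec_injective (J * mS x r s)
      rw [LinGroup.spVec_mul, ← hw, h]
      simp [LinGroup.spVec]
    have hs0 : LinGroup.spVec (mS x r s) v (.inl 0) = 0 := by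
      rw [← c0]; simp [LinGroup.spVec, mS, mulVec, dotProduct, Fintype.sum_sum_type, Fin.sum_univ_two]
    have hs1 : LinGroup.spVec (mS x r s) v (.inl 1) = 0 := by
      rw [← c1]; simp [LinGroup.spVec, mS, mulVec, dotProduct, Fintype.sum_sum_type, Fin.sum_univ_two]
    have hw2 : w (.inr 0) = 0 ∧ w (.inr 1) = 0 := by
      rw [hw, hJdef, swap_mulVec]; simp [hs0, hs1]
    obtain ⟨g, hg, hge⟩ := step0 w hw0 hw2.1 hw2.2
    refine ⟨(J * mS x r s)⁻¹ * g, mul_mem (inv_mem (mul_mem hJ (hS x r s))) hg, ?_⟩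
    rw [LinGroup.spVec_mul, hge, hw, ← LinGroup.spVec_mul J, LinGroup.spVec_inv_cancel']
  rw [eq_top_iff, ← Forms.closure_sympTransSet_eq_top, Subgroup.closure_le]
  rintro A ⟨v, c, hA'⟩
  have eA : A = Forms.sympTransElem v c := Subtype.ext hA'
  subst eA
  rcases eq_or_ne v 0 with rfl | hv
  · have : Forms.sympTransElem (0 : Fin 2 ⊕ Fin 2 → F) c = 1 :=
      LinGroup.spVec_ext fun x => by simp [LinGroup.spVec_sympTransElem, LinGroup.spVec_one]
    rw [this]; exact K.one_mem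
  obtain ⟨g, hg, rfl⟩ := hmove v hv
  rw [SetLike.mem_coe, ← LinGroup.sympTransElem_conj]
  refine mul_mem (mul_mem hg ?_) (inv_mem hg)
  have : Forms.sympTransElem e1 c = mS c 0 0 := by
    refine LinGroup.spVec_ext fun y => ?_
    rw [LinGroup.spVec_sympTransElem, Forms.sympForm_apply]
    ext (i | i) <;> fin_cases i <;>
      simp [LinGroup.spVec, mS, he1, mulVec, dotProduct, Fintype.sum_sum_type, Fin.sum_univ_two]
  rw [this]; exact hS _ _ _

/-- the central involution -/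
theorem std_neg_one : ((spA (diag (-1)) : SpF F) : Matrix (Fin 2 ⊕ Fin 2) (Fin 2 ⊕ Fin 2) F) = -1 := by
  rw [spA_coe]
  ext (i | i) (j | j) <;> fin_cases i <;> fin_cases j <;> simp [leviMat, inv_neg]

end Cfsg.Agent.Lib.SpFourPresentation
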